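/-
Stabilisers in `Cfsg.M24` of pairs of octads: their orders.

Main results: `pairEquiv`, `ncard_octads_meet`, `natCard_pair_mul`, `natCard_pair`.
-/
import Cfsg.Agent.Lib.Golay.OctadOrbits
import Cfsg.Agent.Lib.Golay.Count

set_option autoImplicit false
open scoped Pointwise
open Cfsg MulAction Cfsg.Agent.Golay

namespace Cfsg.Agent.GolayPairs

/-- The stabiliser of two octads, inside M24 and inside all permutations. -/
def pairEquiv (o o' : Finset GolayPt) :
    ↥(stabilizer M24 o ⊓ stabilizer M24 o') ≃*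
      ↥(octadStab o ⊓ stabilizer (Equiv.Perm GolayPt) o') where
  toFun g := ⟨((g : ↥M24) : Equiv.Perm GolayPt), ⟨(g : ↥M24).2, g.2.1⟩, g.2.2⟩
  invFun g := ⟨⟨g.1, g.2.1.1⟩, g.2.1.2, g.2.2⟩
  left_inv _ := rfl
  right_inv _ := rfl
  map_mul' _ _ := rfl

theorem ncard_octads_meet {o : Finset GolayPt} (ho : o ∈ octads) (k : ℕ) :
    {s | s ∈ octads ∧ (s ∩ o).card = k}.ncard =
      countSpan (fun m => popcount m == 8 && popcount (m &&& octad0) == k) rows 0 := by
  obtain ⟨t, ht, rfl⟩ := exists_map_octad octad0_mem ho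
  exact (ncard_inter_smul ht (pts octad0) 8 k).trans (ncard_wordsOfWeight_inter octad0 8 k)

theorem natCard_pair_mul {o o' : Finset GolayPt} (ho : o ∈ octads) (ho' : o' ∈ octads) :
    {s | s ∈ octads ∧ (s ∩ o).card = (o ∩ o').card}.ncard *
      Nat.card ↥(stabilizer M24 o ⊓ stabilizer M24 o') = 322560 := by
  have horb : orbit (octadStab o) o' = {s | s ∈ octads ∧ (s ∩ o).card = (o ∩ o').card} := by
    ext s
    constructor
    · rintro ⟨g, rfl⟩
      refine ⟨smul_mem_octads g.2.1 ho', ?_⟩
      show ((g : Equiv.Perm GolayPt) • o' ∩ o).card = _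
      have hgo : (g : Equiv.Perm GolayPt) • o = o := g.2.2
      have he := Finset.smul_finset_inter (a := (g : Equiv.Perm GolayPt)) (s := o') (t := o)
      rw [hgo] at he
      rw [← he, Finset.card_smul_finset, Finset.inter_comm]
    · rintro ⟨hs, hk⟩
      obtain ⟨g, hg, hgo⟩ := exists_map_octad_pair ho ho' hs (by rw [← hk, Finset.inter_comm])
      exact ⟨⟨g, hg⟩, hgo⟩
  have hidx := index_stabilizer (octadStab o) o'
  rw [horb] at hidx
  have h := (stabilizer (octadStab o) o').index_mul_card
  rw [hidx, natCard_octadStab ho] at h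
  refine Eq.trans (congrArg _ ((Nat.card_congr (pairEquiv o o').toEquiv).trans (Nat.card_congr ?_))) h
  exact
    { toFun := fun g => ⟨⟨g.1, g.2.1⟩, g.2.2⟩
      invFun := fun g => ⟨g.1.1, g.1.2, g.2⟩ }

/-- The orders of the stabilisers of two octads. -/
theorem natCard_pair {o o' : Finset GolayPt} (ho : o ∈ octads) (ho' : o' ∈ octads) :
    ((o ∩ o').card = 0 → Nat.card ↥(stabilizer M24 o ⊓ stabilizer M24 o') = 10752) ∧
      ((o ∩ o').card = 4 → Nat.card ↥(stabilizer M24 o ⊓ stabilizer M24 o') = 1152) ∧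
      ((o ∩ o').card = 2 → Nat.card ↥(stabilizer M24 o ⊓ stabilizer M24 o') = 720) := by
  have h := natCard_pair_mul ho ho'
  rw [ncard_octads_meet ho] at h
  refine ⟨fun hk => ?_, fun hk => ?_, fun hk => ?_⟩ <;> rw [hk] at h
  · rw [show countSpan (fun m => popcount m == 8 && popcount (m &&& octad0) == 0) rows 0 = 30 from
      by decide +kernel] at h
    omega
  · rw [show countSpan (fun m => popcount m == 8 && popcount (m &&& octad0) == 4) rows 0 = 280 from
      by decide +kernel] at h
    omega
  · rw [show countSpan (fun m => popcount m == 8 && popcount (m &&& octad0) == 2) rows 0 = 448 from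
      by decide +kernel] at h
    omega

end Cfsg.Agent.GolayPairs
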